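import Cfsg.Agent.Helper62.Piwek.PowCount

/-!
# Power counts in a group all of whose elements have order dividing one of three
pairwise coprime numbers (helper62, S4376)
-/

set_option autoImplicit false

namespace Cfsg.Agent.Helper62.Piwek

open Finset

section
variable {G : Type} [Group G] [Fintype G] [DecidableEq G]

/-- the solution set of `x ^ d = 1` -/
def powSet (G : Type) [Group G] [Fintype G] [DecidableEq G] (d : ℕ) : Finset G :=
  Finset.univ.filter (fun x : G => x ^ d = 1)

theorem powCount_eq_card_powSet (d : ℕ) : powCount G d = (powSet G d).card := by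
  rw [powCount_eq_card_filter]
  unfold powSet
  rfl

theorem mem_powSet {d : ℕ} {x : G} : x ∈ powSet G d ↔ x ^ d = 1 := by
  unfold powSet
  rw [Finset.mem_filter]
  exact ⟨fun h => h.2, fun h => ⟨Finset.mem_univ _, h⟩⟩

theorem powSet_inter_of_coprime {a b : ℕ} (hab : Nat.Coprime a b) (d : ℕ) :
    powSet G (Nat.gcd d a) ∩ powSet G (Nat.gcd d b) = {1} := by
  ext x
  rw [Finset.mem_inter, mem_powSet, mem_powSet, Finset.mem_singleton]
  constructor
  · rintro ⟨h1, h2⟩
    have h3 : x ^ a = 1 := (pow_gcd_eq_one.mp h1).2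
    have h4 : x ^ b = 1 := (pow_gcd_eq_one.mp h2).2
    have h5 : x ^ Nat.gcd a b = 1 := pow_gcd_eq_one.mpr ⟨h3, h4⟩
    rwa [hab, pow_one] at h5
  · rintro rfl
    exact ⟨one_pow _, one_pow _⟩

theorem card_union3 {a b c : ℕ} (hab : Nat.Coprime a b) (hac : Nat.Coprime a c)
    (hbc : Nat.Coprime b c) (d : ℕ) :
    (powSet G (Nat.gcd d a) ∪ powSet G (Nat.gcd d b) ∪ powSet G (Nat.gcd d c)).card + 2 =
      powCount G (Nat.gcd d a) + powCount G (Nat.gcd d b) + powCount G (Nat.gcd d c) := by
  have h1 := Finset.card_union_add_card_inter (powSet G (Nat.gcd d a)) (powSet G (Nat.gcd d b))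
  rw [powSet_inter_of_coprime hab, Finset.card_singleton] at h1
  have h2 := Finset.card_union_add_card_inter
    (powSet G (Nat.gcd d a) ∪ powSet G (Nat.gcd d b)) (powSet G (Nat.gcd d c))
  rw [Finset.union_inter_distrib_right, powSet_inter_of_coprime hac,
    powSet_inter_of_coprime hbc, Finset.union_self, Finset.card_singleton] at h2
  rw [powCount_eq_card_powSet, powCount_eq_card_powSet, powCount_eq_card_powSet]
  omega

end

section
variable {G : Type} [Group G] [Finite G]

theorem powCount_one : powCount G 1 = 1 := by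
  classical
  have := Fintype.ofFinite G
  rw [powCount_eq_card_filter, Finset.card_eq_one]
  refine ⟨1, ?_⟩
  ext x
  simp

/-- if the three power counts add up to the order of the group plus two, every element is killed
by one of the three exponents -/
theorem pow_eq_one_of_three {a b c N pa pb pc : ℕ} (hab : Nat.Coprime a b)
    (hac : Nat.Coprime a c) (hbc : Nat.Coprime b c) (hN : Nat.card G = N)
    (ha : powCount G a = pa) (hb : powCount G b = pb) (hc : powCount G c = pc)
    (hsum : pa + pb + pc = N + 2) (x : G) :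
    x ^ a = 1 ∨ x ^ b = 1 ∨ x ^ c = 1 := by
  classical
  have := Fintype.ofFinite G
  have h := card_union3 (G := G) hab hac hbc (a * b * c)
  have ga : Nat.gcd (a * b * c) a = a :=
    Nat.gcd_eq_right (Dvd.dvd.mul_right (Dvd.intro _ rfl) _)
  have gb : Nat.gcd (a * b * c) b = b :=
    Nat.gcd_eq_right (Dvd.dvd.mul_right (Dvd.intro_left _ rfl) _)
  have gc : Nat.gcd (a * b * c) c = c := Nat.gcd_eq_right (Dvd.intro_left _ rfl)
  rw [ga, gb, gc, ha, hb, hc, hsum] at h
  rw [Nat.card_eq_fintype_card] at hN
  have h' : (powSet G a ∪ powSet G b ∪ powSet G c).card = Fintype.card G := by omega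
  have huniv := (Finset.card_eq_iff_eq_univ _).mp h'
  have hx : x ∈ powSet G a ∪ powSet G b ∪ powSet G c := by rw [huniv]; exact Finset.mem_univ x
  rw [Finset.mem_union, Finset.mem_union, mem_powSet, mem_powSet, mem_powSet] at hx
  tauto

theorem powCount_of_three {a b c pa pb pc : ℕ} (hab : Nat.Coprime a b) (hac : Nat.Coprime a c)
    (hbc : Nat.Coprime b c) (h3 : ∀ x : G, x ^ a = 1 ∨ x ^ b = 1 ∨ x ^ c = 1) (d : ℕ)
    (ha : powCount G (Nat.gcd d a) = pa) (hb : powCount G (Nat.gcd d b) = pb)
    (hc : powCount G (Nat.gcd d c) = pc) :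
    powCount G d = pa + pb + pc - 2 := by
  classical
  have := Fintype.ofFinite G
  have key : powCount G d + 2 = pa + pb + pc := by
    rw [← ha, ← hb, ← hc, ← card_union3 (G := G) hab hac hbc d, powCount_eq_card_powSet]
    congr 2
    ext x
    rw [Finset.mem_union, Finset.mem_union, mem_powSet, mem_powSet, mem_powSet, mem_powSet]
    constructor
    · intro hx
      rcases h3 x with h | h | h
      · exact Or.inl (Or.inl (pow_gcd_eq_one.mpr ⟨hx, h⟩))
      · exact Or.inl (Or.inr (pow_gcd_eq_one.mpr ⟨hx, h⟩))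
      · exact Or.inr (pow_gcd_eq_one.mpr ⟨hx, h⟩)
    · rintro ((h | h) | h)
      · exact (pow_gcd_eq_one.mp h).1
      · exact (pow_gcd_eq_one.mp h).1
      · exact (pow_gcd_eq_one.mp h).1
  omega

end

end Cfsg.Agent.Helper62.Piwek
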