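import Cfsg.Agent.Helper62.Piwek.PowCount

/-!
# `GL₃(𝔽₂)`: not solvable, and its power counts (helper62, S4376)
-/

set_option autoImplicit false
set_option maxRecDepth 1000000
set_option maxHeartbeats 4000000

namespace Cfsg.Agent.Helper62.Piwek

open Matrix
open scoped commutatorElement

/-- 3 × 3 matrices over `𝔽₂` -/
abbrev M32 := Matrix (Fin 3) (Fin 3) (ZMod 2)

/-- `GL₃(𝔽₂)` -/
abbrev Y := M32ˣ

/-- an involution of `GL₃(𝔽₂)` -/
def yx : Y := ⟨!![0,0,1;0,1,0;1,0,0], !![0,0,1;0,1,0;1,0,0], by decide, by decide⟩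
/-- auxiliary element -/
def yy : Y := ⟨!![0,0,1;0,1,1;1,1,0], !![1,1,1;1,1,0;1,0,0], by decide, by decide⟩
/-- auxiliary element -/
def yz : Y := ⟨!![0,0,1;0,1,1;1,0,0], !![0,0,1;1,1,0;1,0,0], by decide, by decide⟩

theorem yx_key : yx = yz * ⁅yx, yy * yx * yy⁻¹⁆ * yz⁻¹ := by decide

theorem Y_not_solvable : ¬ Group.IsSolvable Y := by
  refine not_isSolvable_of_mem_derivedSeries (show yx ≠ 1 by decide) fun n => ?_
  induction n with
  | zero => exact Subgroup.mem_top yx
  | succ n ih =>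
    rw [yx_key, (derivedSeries_normal _ _).mem_comm_iff, inv_mul_cancel_left]
    exact Subgroup.commutator_mem_commutator ih ((derivedSeries_normal _ _).conj_mem _ ih _)

/-- the power count of `GL₃(𝔽₂)` computed on matrices -/
theorem powCount_Y_eq (a b c : ℕ) (hd : a * b * c ≠ 0) :
    powCount Y (a * b * c) = pcc M32 a b c := by
  have key : ∀ x : M32, ((x ^ a) ^ b) ^ c = x ^ (a * b * c) := by
    intro x
    rw [← pow_mul, ← pow_mul, mul_assoc]
  rw [powCount_eq_card_filter]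
  unfold pcc
  refine Finset.card_bij (fun u _ => (u : M32)) ?_ ?_ ?_
  · intro u hu
    rw [Finset.mem_filter] at hu ⊢
    refine ⟨Finset.mem_univ _, ?_⟩
    rw [key, ← Units.val_pow_eq_pow_val, hu.2, Units.val_one]
  · intro u _ v _ h
    exact Units.ext h
  · intro M hM
    rw [Finset.mem_filter, key] at hM
    refine ⟨Units.ofPowEqOne M (a * b * c) hM.2 hd, ?_, Units.val_ofPowEqOne _ _ hM.2 hd⟩
    rw [Finset.mem_filter]
    refine ⟨Finset.mem_univ _, ?_⟩
    apply Units.ext
    rw [Units.val_pow_eq_pow_val, Units.val_ofPowEqOne, hM.2, Units.val_one]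

end Cfsg.Agent.Helper62.Piwek
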