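import Cfsg.Agent.Helper62.Piwek.GL32
import Cfsg.Agent.Helper62.Piwek.Coprime3

/-!
# Power counts of `GL₃(𝔽₂)` (helper62, S4376)
-/

set_option autoImplicit false
set_option maxRecDepth 1000000
set_option maxHeartbeats 4000000

namespace Cfsg.Agent.Helper62.Piwek

open Matrix

theorem mcc_2 : pcc M32 1 2 1 = 22 := by decide +kernel
theorem mcc_3 : pcc M32 3 1 1 = 57 := by decide +kernel
theorem mcc_4 : pcc M32 1 4 1 = 64 := by decide +kernel
theorem mcc_7 : pcc M32 1 1 7 = 49 := by decide +kernel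

theorem Ypc_2 : powCount Y 2 = 22 := (powCount_Y_eq 1 2 1 (by norm_num)).trans mcc_2
theorem Ypc_3 : powCount Y 3 = 57 := (powCount_Y_eq 3 1 1 (by norm_num)).trans mcc_3
theorem Ypc_4 : powCount Y 4 = 64 := (powCount_Y_eq 1 4 1 (by norm_num)).trans mcc_4
theorem Ypc_7 : powCount Y 7 = 49 := (powCount_Y_eq 1 1 7 (by norm_num)).trans mcc_7
theorem Ypc_1 : powCount Y 1 = 1 := powCount_one

theorem card_Y : Nat.card Y = 168 := by
  have h := Matrix.card_GL_field (𝔽 := ZMod 2) 3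
  rw [h, ZMod.card, Fin.prod_univ_three]
  rfl

theorem cop43 : Nat.Coprime 4 3 := by decide
theorem cop47 : Nat.Coprime 4 7 := by decide
theorem cop37 : Nat.Coprime 3 7 := by decide

theorem Y_three (u : Y) : u ^ 4 = 1 ∨ u ^ 3 = 1 ∨ u ^ 7 = 1 :=
  pow_eq_one_of_three cop43 cop47 cop37 card_Y Ypc_4 Ypc_3 Ypc_7 (by norm_num) u

theorem Y_exp84 (u : Y) : u ^ 84 = 1 := by
  rcases Y_three u with h | h | h
  · rw [show 84 = 4 * 21 from rfl, pow_mul, h, one_pow]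
  · rw [show 84 = 3 * 28 from rfl, pow_mul, h, one_pow]
  · rw [show 84 = 7 * 12 from rfl, pow_mul, h, one_pow]

theorem Ypc_6 : powCount Y 6 = 78 :=
  powCount_of_three cop43 cop47 cop37 Y_three 6 Ypc_2 Ypc_3 Ypc_1
theorem Ypc_12 : powCount Y 12 = 120 :=
  powCount_of_three cop43 cop47 cop37 Y_three 12 Ypc_4 Ypc_3 Ypc_1
theorem Ypc_14 : powCount Y 14 = 70 :=
  powCount_of_three cop43 cop47 cop37 Y_three 14 Ypc_2 Ypc_1 Ypc_7
theorem Ypc_21 : powCount Y 21 = 105 :=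
  powCount_of_three cop43 cop47 cop37 Y_three 21 Ypc_1 Ypc_3 Ypc_7
theorem Ypc_28 : powCount Y 28 = 112 :=
  powCount_of_three cop43 cop47 cop37 Y_three 28 Ypc_4 Ypc_1 Ypc_7
theorem Ypc_42 : powCount Y 42 = 126 :=
  powCount_of_three cop43 cop47 cop37 Y_three 42 Ypc_2 Ypc_3 Ypc_7
theorem Ypc_84 : powCount Y 84 = 168 :=
  powCount_of_three cop43 cop47 cop37 Y_three 84 Ypc_4 Ypc_3 Ypc_7

/-- the table of power counts of `GL₃(𝔽₂)` -/
def Ytab : ℕ → ℕ
  | 1 => 1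
  | 2 => 22
  | 3 => 57
  | 4 => 64
  | 6 => 78
  | 7 => 49
  | 12 => 120
  | 14 => 70
  | 21 => 105
  | 28 => 112
  | 42 => 126
  | 84 => 168
  | _ => 0

theorem Ypc_tab : ∀ d ∈ Nat.divisors 84, powCount Y d = Ytab d := by
  intro d hd
  rcases divisors_84 d hd with rfl | rfl | rfl | rfl | rfl | rfl | rfl | rfl | rfl | rfl | rfl | rfl
  · exact Ypc_1
  · exact Ypc_2
  · exact Ypc_3
  · exact Ypc_4
  · exact Ypc_6
  · exact Ypc_7
  · exact Ypc_12
  · exact Ypc_14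
  · exact Ypc_21
  · exact Ypc_28
  · exact Ypc_42
  · exact Ypc_84

end Cfsg.Agent.Helper62.Piwek
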