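import Mathlib

/-!
# Power counts: `#{x : G | x ^ d = 1}`

Basic machinery for comparing the order types of two finite groups through the
multiplicative function `d ↦ #{x | x ^ d = 1}` (helper62, for S4376).
-/

set_option autoImplicit false

namespace Cfsg.Agent.Helper62.Piwek

open Finset

/-- number of solutions of `x ^ d = 1` -/
noncomputable def powCount (G : Type) [Group G] (d : ℕ) : ℕ :=
  Nat.card {x : G // x ^ d = 1}

/-- number of solutions of `((x ^ a) ^ b) ^ c = 1`, in a form that can be evaluated -/
def pcc (G : Type) [Monoid G] [Fintype G] [DecidableEq G] (a b c : ℕ) : ℕ :=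
  (Finset.univ.filter (fun x : G => ((x ^ a) ^ b) ^ c = 1)).card

section general
variable {G H : Type} [Group G] [Group H]

theorem powCount_eq_card_filter [Fintype G] [DecidableEq G] (d : ℕ) :
    powCount G d = (Finset.univ.filter (fun x : G => x ^ d = 1)).card := by
  unfold powCount
  rw [Nat.card_eq_fintype_card, Fintype.card_subtype]

theorem powCount_eq_pcc (G : Type) [Group G] [Fintype G] [DecidableEq G] (a b c : ℕ) :
    powCount G (a * b * c) = pcc G a b c := by
  rw [powCount_eq_card_filter]
  unfold pcc
  congr 1
  apply Finset.filter_congr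
  intro x _
  rw [pow_mul, pow_mul]

theorem card_orderOf_eq_of_powCount_eq [Finite G] [Finite H]
    (h : ∀ d : ℕ, 0 < d → powCount G d = powCount H d) (n : ℕ) :
    Nat.card {g : G // orderOf g = n} = Nat.card {g : H // orderOf g = n} := by
  classical
  have := Fintype.ofFinite G
  have := Fintype.ofFinite H
  have key : ∀ n : ℕ, (Finset.univ.filter (fun x : G => orderOf x = n)).card =
      (Finset.univ.filter (fun x : H => orderOf x = n)).card := by
    intro n
    induction n using Nat.strong_induction_on with
    | _ n ih =>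
      rcases Nat.eq_zero_or_pos n with rfl | hn
      · have h1 : (Finset.univ.filter (fun x : G => orderOf x = 0)).card = 0 := by
          rw [Finset.card_eq_zero, Finset.filter_eq_empty_iff]
          intro x _
          exact (orderOf_pos x).ne'
        have h2 : (Finset.univ.filter (fun x : H => orderOf x = 0)).card = 0 := by
          rw [Finset.card_eq_zero, Finset.filter_eq_empty_iff]
          intro x _
          exact (orderOf_pos x).ne'
        rw [h1, h2]
      · have h1 := sum_card_orderOf_eq_card_pow_eq_one (G := G) hn.ne'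
        have h2 := sum_card_orderOf_eq_card_pow_eq_one (G := H) hn.ne'
        rw [← Nat.cons_self_properDivisors hn.ne', Finset.sum_cons] at h1 h2
        have h3 : ∑ m ∈ n.properDivisors, (Finset.univ.filter (fun x : G => orderOf x = m)).card =
            ∑ m ∈ n.properDivisors, (Finset.univ.filter (fun x : H => orderOf x = m)).card := by
          apply Finset.sum_congr rfl
          intro m hm
          exact ih m (Nat.mem_properDivisors.mp hm).2
        have h4 := h n hn
        rw [powCount_eq_card_filter, powCount_eq_card_filter] at h4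
        omega
  rw [Nat.card_eq_fintype_card, Nat.card_eq_fintype_card, Fintype.card_subtype,
    Fintype.card_subtype]
  exact key n

theorem powCount_eq_gcd {E : ℕ} (hE : ∀ x : G, x ^ E = 1) (n : ℕ) :
    powCount G n = powCount G (Nat.gcd n E) := by
  unfold powCount
  apply Nat.card_congr
  apply Equiv.subtypeEquivRight
  intro x
  constructor
  · intro hx
    exact pow_gcd_eq_one.mpr ⟨hx, hE x⟩
  · intro hx
    exact (pow_gcd_eq_one.mp hx).1

theorem pow_eq_one_of_powCount_eq_card [Finite G] {E : ℕ} (h : powCount G E = Nat.card G)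
    (x : G) : x ^ E = 1 := by
  classical
  have := Fintype.ofFinite G
  rw [powCount_eq_card_filter, Nat.card_eq_fintype_card] at h
  have := (Finset.card_eq_iff_eq_univ _).mp h
  have hx : x ∈ Finset.univ.filter (fun x : G => x ^ E = 1) := by
    rw [this]; exact Finset.mem_univ x
  exact (Finset.mem_filter.mp hx).2

end general

section products
variable {α β : Type} [Group α] [Group β]

theorem powCount_prod (d : ℕ) : powCount (α × β) d = powCount α d * powCount β d := by
  unfold powCount
  rw [← Nat.card_prod]
  apply Nat.card_congr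
  exact
    { toFun := fun x => (⟨x.1.1, congrArg Prod.fst x.2⟩, ⟨x.1.2, congrArg Prod.snd x.2⟩)
      invFun := fun p => ⟨(p.1.1, p.2.1), Prod.ext p.1.2 p.2.2⟩
      left_inv := fun x => rfl
      right_inv := fun p => rfl }

theorem powCount_pi_fin (k d : ℕ) : powCount (Fin k → α) d = powCount α d ^ k := by
  unfold powCount
  have e : {x : Fin k → α // x ^ d = 1} ≃ (Fin k → {x : α // x ^ d = 1}) :=
    { toFun := fun x i => ⟨x.1 i, congrFun x.2 i⟩
      invFun := fun f => ⟨fun i => (f i).1, funext fun i => (f i).2⟩
      left_inv := fun x => rfl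
      right_inv := fun f => rfl }
  rw [Nat.card_congr e, Nat.card_fun, Nat.card_fin]

theorem pow_eq_one_prod {E : ℕ} (h1 : ∀ x : α, x ^ E = 1) (h2 : ∀ x : β, x ^ E = 1)
    (x : α × β) : x ^ E = 1 := by
  ext
  · exact h1 x.1
  · exact h2 x.2

theorem pow_eq_one_pi {ι : Type} {E : ℕ} (h1 : ∀ x : α, x ^ E = 1)
    (x : ι → α) : x ^ E = 1 := by
  funext i
  exact h1 (x i)

end products

theorem divisors_84 : ∀ d ∈ Nat.divisors 84, d = 1 ∨ d = 2 ∨ d = 3 ∨ d = 4 ∨ d = 6 ∨ d = 7 ∨
    d = 12 ∨ d = 14 ∨ d = 21 ∨ d = 28 ∨ d = 42 ∨ d = 84 := by decide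

theorem gcd_84_mem (n : ℕ) : Nat.gcd n 84 ∈ Nat.divisors 84 :=
  Nat.mem_divisors.mpr ⟨Nat.gcd_dvd_right n 84, by norm_num⟩

section solvable

instance pi_isSolvable {ι : Type} {X : Type} [Group X] [hX : Group.IsSolvable X] :
    Group.IsSolvable (ι → X) := by
  obtain ⟨n, hn⟩ := hX
  refine ⟨⟨n, ?_⟩⟩
  rw [eq_bot_iff]
  intro f hf
  rw [Subgroup.mem_bot]
  funext i
  have := map_derivedSeries_le_derivedSeries (Pi.evalMonoidHom (fun _ : ι => X) i) n
    (Subgroup.mem_map_of_mem _ hf)
  rw [hn, Subgroup.mem_bot] at this
  exact this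

end solvable

attribute [irreducible] pcc

end Cfsg.Agent.Helper62.Piwek
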