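import Mathlib

/-!
# Split extensions `(ZMod m)^n ⋊ K` through a matrix representation of `K`

A computation-friendly semidirect product used to build small solvable groups (helper62, S4376).
-/

set_option autoImplicit false

namespace Cfsg.Agent.Helper62.Piwek

open Matrix

/-- `(ZMod m)^n ⋊_ρ K`, as pairs `(k, a)` with `(k, a)(k', a') = (k k', a + ρ(k) a')`. -/
structure Sdp {K : Type} [Monoid K] (m n : ℕ) (ρ : K →* Matrix (Fin n) (Fin n) (ZMod m)) where
  /-- the component in the acting group -/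
  k : K
  /-- the component in the module -/
  a : Fin n → ZMod m

namespace Sdp
variable {K : Type} [Group K] {m n : ℕ} {ρ : K →* Matrix (Fin n) (Fin n) (ZMod m)}

theorem ext' {x y : Sdp m n ρ} (h1 : x.k = y.k) (h2 : x.a = y.a) : x = y := by
  cases x; cases y; simp_all

instance instDecEq [DecidableEq K] : DecidableEq (Sdp m n ρ) := fun x y =>
  decidable_of_iff (x.k = y.k ∧ x.a = y.a)
    ⟨fun h => ext' h.1 h.2, fun h => by subst h; exact ⟨rfl, rfl⟩⟩

/-- the underlying pair -/
def equivProd : Sdp m n ρ ≃ K × (Fin n → ZMod m) where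
  toFun x := (x.k, x.a)
  invFun p := ⟨p.1, p.2⟩
  left_inv x := by cases x; rfl
  right_inv p := by cases p; rfl

instance instFintype [Fintype K] [NeZero m] : Fintype (Sdp m n ρ) :=
  Fintype.ofEquiv _ equivProd.symm

instance instGroup : Group (Sdp m n ρ) where
  mul x y := ⟨x.k * y.k, x.a + ρ x.k *ᵥ y.a⟩
  one := ⟨1, 0⟩
  inv x := ⟨x.k⁻¹, -(ρ x.k⁻¹ *ᵥ x.a)⟩
  mul_assoc x y z := by
    apply ext'
    · exact mul_assoc _ _ _
    · show x.a + ρ x.k *ᵥ y.a + ρ (x.k * y.k) *ᵥ z.a = x.a + ρ x.k *ᵥ (y.a + ρ y.k *ᵥ z.a)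
      rw [map_mul, Matrix.mulVec_add, Matrix.mulVec_mulVec, add_assoc]
  one_mul x := by
    apply ext'
    · exact one_mul _
    · show (0 : Fin n → ZMod m) + ρ 1 *ᵥ x.a = x.a
      rw [map_one, Matrix.one_mulVec, zero_add]
  mul_one x := by
    apply ext'
    · exact mul_one _
    · show x.a + ρ x.k *ᵥ (0 : Fin n → ZMod m) = x.a
      rw [Matrix.mulVec_zero, add_zero]
  inv_mul_cancel x := by
    apply ext'
    · exact inv_mul_cancel _
    · show -(ρ x.k⁻¹ *ᵥ x.a) + ρ x.k⁻¹ *ᵥ x.a = 0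
      exact neg_add_cancel _

@[simp] theorem mul_k (x y : Sdp m n ρ) : (x * y).k = x.k * y.k := rfl
@[simp] theorem mul_a (x y : Sdp m n ρ) : (x * y).a = x.a + ρ x.k *ᵥ y.a := rfl
@[simp] theorem one_k : (1 : Sdp m n ρ).k = 1 := rfl
@[simp] theorem one_a : (1 : Sdp m n ρ).a = 0 := rfl

/-- projection onto the acting group -/
def proj : Sdp m n ρ →* K where
  toFun x := x.k
  map_one' := rfl
  map_mul' _ _ := rfl

@[simp] theorem proj_apply (x : Sdp m n ρ) : proj x = x.k := rfl

instance instIsSolvable [hK : Group.IsSolvable K] : Group.IsSolvable (Sdp m n ρ) := by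
  have : Group.IsSolvable (proj (ρ := ρ)).ker := by
    apply Group.isSolvable_of_comm
    rintro ⟨x, hx⟩ ⟨y, hy⟩
    rw [MonoidHom.mem_ker, proj_apply] at hx hy
    apply Subtype.ext
    apply ext'
    · show x.k * y.k = y.k * x.k
      rw [hx, hy]
    · show x.a + ρ x.k *ᵥ y.a = y.a + ρ y.k *ᵥ x.a
      rw [hx, hy, map_one, Matrix.one_mulVec, Matrix.one_mulVec, add_comm]
  exact Group.isSolvable_of_ker_le_range (proj (ρ := ρ)).ker.subtype (proj (ρ := ρ))
    (by rw [Subgroup.range_subtype])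

end Sdp

/-- the representation of a cyclic group `ZMod c` sending the generator to `Q` -/
def cycRep {c m n : ℕ} [NeZero c] (Q : Matrix (Fin n) (Fin n) (ZMod m)) (hQ : Q ^ c = 1) :
    Multiplicative (ZMod c) →* Matrix (Fin n) (Fin n) (ZMod m) where
  toFun k := Q ^ (Multiplicative.toAdd k).val
  map_one' := by
    show Q ^ (0 : ZMod c).val = 1
    rw [ZMod.val_zero, pow_zero]
  map_mul' x y := by
    show Q ^ (Multiplicative.toAdd x + Multiplicative.toAdd y).val
      = Q ^ (Multiplicative.toAdd x).val * Q ^ (Multiplicative.toAdd y).val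
    rw [← pow_add, ZMod.val_add]
    exact (pow_eq_pow_mod _ hQ).symm

end Cfsg.Agent.Helper62.Piwek
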