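import Cfsg.Agent.Helper62.Piwek.PowCount
import Cfsg.Agent.Helper62.Piwek.Sdp

/-!
# Counting solutions of `x ^ d = 1` in `(ZMod m)^n ⋊ K` (helper62, S4376)

`(k, a) ^ d = (k ^ d, (1 + ρ k + ⋯ + ρ k ^ (d-1)) a)`, so the number of solutions of `x ^ d = 1`
is a sum over the solutions `k` of `k ^ d = 1` in `K` of the sizes of the kernels of the
geometric sums.
-/

set_option autoImplicit false

namespace Cfsg.Agent.Helper62.Piwek

open Matrix Finset

/-- weighted count of the solutions of `((g ^ a) ^ b) ^ c = 1` -/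
def wpcc (G : Type) [Group G] [Fintype G] [DecidableEq G] (a b c : ℕ) (w : G → ℕ) : ℕ :=
  ∑ g ∈ Finset.univ.filter (fun g : G => ((g ^ a) ^ b) ^ c = 1), w g

/-- weighted count of the solutions of `g ^ d = 1` -/
def wpc (G : Type) [Group G] [Fintype G] [DecidableEq G] (d : ℕ) (w : G → ℕ) : ℕ :=
  ∑ g ∈ Finset.univ.filter (fun g : G => g ^ d = 1), w g

theorem wpc_eq_wpcc (G : Type) [Group G] [Fintype G] [DecidableEq G] (a b c : ℕ) (w : G → ℕ) :
    wpc G (a * b * c) w = wpcc G a b c w := by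
  unfold wpc wpcc
  congr 1
  apply Finset.filter_congr
  intro x _
  rw [pow_mul, pow_mul]

theorem powCount_eq_wpc (G : Type) [Group G] [Fintype G] [DecidableEq G] (d : ℕ) :
    powCount G d = wpc G d (fun _ => 1) := by
  rw [powCount_eq_card_filter]
  unfold wpc
  rw [Finset.card_eq_sum_ones]

section gsum
variable {m n : ℕ}

/-- geometric sum `1 + M + ⋯ + M ^ (d-1)` -/
def gsum (M : Matrix (Fin n) (Fin n) (ZMod m)) (d : ℕ) : Matrix (Fin n) (Fin n) (ZMod m) :=
  ∑ j ∈ Finset.range d, M ^ j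

theorem gsum_succ (M : Matrix (Fin n) (Fin n) (ZMod m)) (d : ℕ) :
    gsum M (d + 1) = gsum M d + M ^ d := by
  unfold gsum
  rw [Finset.sum_range_succ]

theorem gsum_zero (M : Matrix (Fin n) (Fin n) (ZMod m)) : gsum M 0 = 0 := by
  unfold gsum
  rw [Finset.sum_range_zero]

theorem gsum_mul (M : Matrix (Fin n) (Fin n) (ZMod m)) (a b : ℕ) :
    gsum M (a * b) = gsum M a * gsum (M ^ a) b := by
  induction b with
  | zero => rw [Nat.mul_zero, gsum_zero, gsum_zero, mul_zero]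
  | succ b ih =>
    rw [Nat.mul_succ, gsum_succ, mul_add, ← ih]
    unfold gsum
    rw [Finset.sum_range_add, Finset.sum_mul]
    congr 1
    apply Finset.sum_congr rfl
    intro j _
    rw [← pow_mul, ← pow_add, add_comm]

/-- chunked geometric sum for the exponent `a * b * c` -/
def gs3 (M : Matrix (Fin n) (Fin n) (ZMod m)) (a b c : ℕ) : Matrix (Fin n) (Fin n) (ZMod m) :=
  gsum M a * gsum (M ^ a) b * gsum ((M ^ a) ^ b) c

theorem gsum_eq_gs3 (M : Matrix (Fin n) (Fin n) (ZMod m)) (a b c : ℕ) :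
    gsum M (a * b * c) = gs3 M a b c := by
  unfold gs3
  rw [gsum_mul, gsum_mul, pow_mul]

/-- size of the kernel of a matrix over `ZMod m` -/
def kerCount [NeZero m] (N : Matrix (Fin n) (Fin n) (ZMod m)) : ℕ :=
  (Finset.univ.filter (fun a : Fin n → ZMod m => N *ᵥ a = 0)).card

end gsum

namespace Sdp
variable {K : Type} [Group K] {m n : ℕ} {ρ : K →* Matrix (Fin n) (Fin n) (ZMod m)}

theorem pow_k (x : Sdp m n ρ) (d : ℕ) : (x ^ d).k = x.k ^ d :=
  map_pow (proj (ρ := ρ)) x d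

theorem pow_a (x : Sdp m n ρ) (d : ℕ) : (x ^ d).a = gsum (ρ x.k) d *ᵥ x.a := by
  induction d with
  | zero => rw [pow_zero, gsum_zero, Matrix.zero_mulVec]; rfl
  | succ d ih =>
    rw [pow_succ, mul_a, ih, pow_k, map_pow, gsum_succ, Matrix.add_mulVec]

theorem pow_eq_one_iff (x : Sdp m n ρ) (d : ℕ) :
    x ^ d = 1 ↔ x.k ^ d = 1 ∧ gsum (ρ x.k) d *ᵥ x.a = 0 := by
  constructor
  · intro h
    refine ⟨?_, ?_⟩
    · rw [← pow_k, h]; rfl
    · rw [← pow_a, h]; rfl
  · rintro ⟨h1, h2⟩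
    apply ext'
    · rw [pow_k, h1]; rfl
    · rw [pow_a, h2]; rfl

variable [Fintype K] [DecidableEq K] [NeZero m]

theorem wpc_sdp (d : ℕ) (w : K → ℕ) :
    wpc (Sdp m n ρ) d (fun x => w x.k) = wpc K d (fun k => w k * kerCount (gsum (ρ k) d)) := by
  unfold wpc
  rw [Finset.sum_filter, Finset.sum_filter]
  rw [← Equiv.sum_comp (equivProd (ρ := ρ)).symm, Fintype.sum_prod_type]
  apply Finset.sum_congr rfl
  intro k _
  have h1 : ∀ a : Fin n → ZMod m, (if (equivProd (ρ := ρ)).symm (k, a) ^ d = 1 then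
      w ((equivProd (ρ := ρ)).symm (k, a)).k else 0) =
      if k ^ d = 1 then (if gsum (ρ k) d *ᵥ a = 0 then w k else 0) else 0 := by
    intro a
    have : (equivProd (ρ := ρ)).symm (k, a) ^ d = 1 ↔ k ^ d = 1 ∧ gsum (ρ k) d *ᵥ a = 0 :=
      pow_eq_one_iff _ d
    by_cases hk : k ^ d = 1
    · by_cases ha : gsum (ρ k) d *ᵥ a = 0
      · rw [if_pos (this.mpr ⟨hk, ha⟩), if_pos hk, if_pos ha]; rfl
      · rw [if_neg (fun h => ha (this.mp h).2), if_pos hk, if_neg ha]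
    · rw [if_neg (fun h => hk (this.mp h).1), if_neg hk]
  rw [Finset.sum_congr rfl (fun a _ => h1 a)]
  by_cases hk : k ^ d = 1
  · rw [if_pos hk]
    simp only [if_pos hk]
    unfold kerCount
    rw [← Finset.sum_filter, Finset.sum_const, smul_eq_mul, mul_comm]
  · simp only [if_neg hk, Finset.sum_const_zero]

/-- one module on top of `K` -/
theorem powCount_top1 (d : ℕ) :
    powCount (Sdp m n ρ) d = wpc K d (fun k => kerCount (gsum (ρ k) d)) := by
  rw [powCount_eq_wpc]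
  have := wpc_sdp (ρ := ρ) d (fun _ => 1)
  simp only [one_mul] at this
  exact this

/-- two modules on top of `K` -/
theorem powCount_top2 {m1 n1 m2 n2 : ℕ} [NeZero m1] [NeZero m2]
    (s1 : K →* Matrix (Fin n1) (Fin n1) (ZMod m1)) (s2 : K →* Matrix (Fin n2) (Fin n2) (ZMod m2))
    (d : ℕ) :
    powCount (Sdp m2 n2 (s2.comp (proj : Sdp m1 n1 s1 →* K))) d =
      wpc K d (fun k => kerCount (gsum (s2 k) d) * kerCount (gsum (s1 k) d)) := by
  rw [powCount_top1]
  exact wpc_sdp (ρ := s1) d (fun k => kerCount (gsum (s2 k) d))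

/-- three modules on top of `K` -/
theorem powCount_top3 {m1 n1 m2 n2 m3 n3 : ℕ} [NeZero m1] [NeZero m2] [NeZero m3]
    (s1 : K →* Matrix (Fin n1) (Fin n1) (ZMod m1)) (s2 : K →* Matrix (Fin n2) (Fin n2) (ZMod m2))
    (s3 : K →* Matrix (Fin n3) (Fin n3) (ZMod m3)) (d : ℕ) :
    powCount (Sdp m3 n3 (s3.comp ((proj : Sdp m1 n1 s1 →* K).comp
      (proj : Sdp m2 n2 (s2.comp (proj : Sdp m1 n1 s1 →* K)) →* Sdp m1 n1 s1)))) d =
      wpc K d (fun k => kerCount (gsum (s3 k) d) * kerCount (gsum (s2 k) d) *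
        kerCount (gsum (s1 k) d)) := by
  rw [powCount_top1]
  have h := wpc_sdp (ρ := s2.comp (proj : Sdp m1 n1 s1 →* K)) d
    (fun t => kerCount (gsum (s3 t.k) d))
  refine h.trans ?_
  exact wpc_sdp (ρ := s1) d (fun k => kerCount (gsum (s3 k) d) * kerCount (gsum (s2 k) d))

theorem powCount_top1' (a b c : ℕ) :
    powCount (Sdp m n ρ) (a * b * c) = wpcc K a b c (fun k => kerCount (gs3 (ρ k) a b c)) := by
  rw [powCount_top1, wpc_eq_wpcc]
  simp only [gsum_eq_gs3]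

theorem powCount_top2' {m1 n1 m2 n2 : ℕ} [NeZero m1] [NeZero m2]
    (s1 : K →* Matrix (Fin n1) (Fin n1) (ZMod m1)) (s2 : K →* Matrix (Fin n2) (Fin n2) (ZMod m2))
    (a b c : ℕ) :
    powCount (Sdp m2 n2 (s2.comp (proj : Sdp m1 n1 s1 →* K))) (a * b * c) =
      wpcc K a b c (fun k => kerCount (gs3 (s2 k) a b c) * kerCount (gs3 (s1 k) a b c)) := by
  rw [powCount_top2, wpc_eq_wpcc]
  simp only [gsum_eq_gs3]

theorem powCount_top3' {m1 n1 m2 n2 m3 n3 : ℕ} [NeZero m1] [NeZero m2] [NeZero m3]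
    (s1 : K →* Matrix (Fin n1) (Fin n1) (ZMod m1)) (s2 : K →* Matrix (Fin n2) (Fin n2) (ZMod m2))
    (s3 : K →* Matrix (Fin n3) (Fin n3) (ZMod m3)) (a b c : ℕ) :
    powCount (Sdp m3 n3 (s3.comp ((proj : Sdp m1 n1 s1 →* K).comp
      (proj : Sdp m2 n2 (s2.comp (proj : Sdp m1 n1 s1 →* K)) →* Sdp m1 n1 s1)))) (a * b * c) =
      wpcc K a b c (fun k => kerCount (gs3 (s3 k) a b c) * kerCount (gs3 (s2 k) a b c) *
        kerCount (gs3 (s1 k) a b c)) := by
  rw [powCount_top3, wpc_eq_wpcc]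
  simp only [gsum_eq_gs3]

end Sdp

attribute [irreducible] wpcc wpc gsum gs3 kerCount

end Cfsg.Agent.Helper62.Piwek
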