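import Cfsg.Agent.Helper62.Piwek.PowCount
import Cfsg.Agent.Helper62.Piwek.SdpCount

set_option autoImplicit false
set_option maxRecDepth 1000000
set_option maxHeartbeats 4000000

namespace Cfsg.Agent.Helper62.Piwek.X04
open Matrix

/-- base cyclic group -/
abbrev L0 := Multiplicative (ZMod 2)
/-- action matrix, level 1 -/
def r1 : L0 →* Matrix (Fin 1) (Fin 1) (ZMod 3) :=
  cycRep (!![2] : Matrix (Fin 1) (Fin 1) (ZMod 3)) (by decide)
/-- level 1 -/
abbrev L1 := Sdp 3 1 r1
/-- action, level 2 -/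
def r2 : L1 →* Matrix (Fin 2) (Fin 2) (ZMod 2) where
  toFun x := (!![0,1;1,0] : Matrix (Fin 2) (Fin 2) (ZMod 2)) ^ (Multiplicative.toAdd x.k).val
  map_one' := by decide +kernel
  map_mul' := by decide +kernel
/-- level 2 -/
abbrev L2 := Sdp 2 2 r2

/-- the group -/
abbrev X := L2

theorem card_X : Nat.card X = 24 := by
  rw [Nat.card_eq_fintype_card]
  decide +kernel

theorem pcc_1 : pcc X 1 1 1 = 1 := by decide +kernel
theorem pcc_2 : pcc X 1 2 1 = 10 := by decide +kernel
theorem pcc_3 : pcc X 3 1 1 = 3 := by decide +kernel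
theorem pcc_4 : pcc X 1 4 1 = 16 := by decide +kernel
theorem pcc_6 : pcc X 3 2 1 = 18 := by decide +kernel
theorem pcc_7 : pcc X 1 1 7 = 1 := by decide +kernel
theorem pcc_12 : pcc X 3 4 1 = 24 := by decide +kernel
theorem pcc_14 : pcc X 1 2 7 = 10 := by decide +kernel
theorem pcc_21 : pcc X 3 1 7 = 3 := by decide +kernel
theorem pcc_28 : pcc X 1 4 7 = 16 := by decide +kernel
theorem pcc_42 : pcc X 3 2 7 = 18 := by decide +kernel
theorem pcc_84 : pcc X 3 4 7 = 24 := by decide +kernel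

theorem pc_1 : powCount X 1 = 1 := (powCount_eq_pcc X 1 1 1).trans pcc_1
theorem pc_2 : powCount X 2 = 10 := (powCount_eq_pcc X 1 2 1).trans pcc_2
theorem pc_3 : powCount X 3 = 3 := (powCount_eq_pcc X 3 1 1).trans pcc_3
theorem pc_4 : powCount X 4 = 16 := (powCount_eq_pcc X 1 4 1).trans pcc_4
theorem pc_6 : powCount X 6 = 18 := (powCount_eq_pcc X 3 2 1).trans pcc_6
theorem pc_7 : powCount X 7 = 1 := (powCount_eq_pcc X 1 1 7).trans pcc_7
theorem pc_12 : powCount X 12 = 24 := (powCount_eq_pcc X 3 4 1).trans pcc_12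
theorem pc_14 : powCount X 14 = 10 := (powCount_eq_pcc X 1 2 7).trans pcc_14
theorem pc_21 : powCount X 21 = 3 := (powCount_eq_pcc X 3 1 7).trans pcc_21
theorem pc_28 : powCount X 28 = 16 := (powCount_eq_pcc X 1 4 7).trans pcc_28
theorem pc_42 : powCount X 42 = 18 := (powCount_eq_pcc X 3 2 7).trans pcc_42
theorem pc_84 : powCount X 84 = 24 := (powCount_eq_pcc X 3 4 7).trans pcc_84

/-- the table of power counts -/
def tab : ℕ → ℕ
  | 1 => 1
  | 2 => 10
  | 3 => 3
  | 4 => 16
  | 6 => 18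
  | 7 => 1
  | 12 => 24
  | 14 => 10
  | 21 => 3
  | 28 => 16
  | 42 => 18
  | 84 => 24
  | _ => 0

theorem pc_tab : ∀ d ∈ Nat.divisors 84, powCount X d = tab d := by
  intro d hd
  rcases divisors_84 d hd with
    rfl | rfl | rfl | rfl | rfl | rfl | rfl | rfl | rfl | rfl | rfl | rfl
  · exact pc_1
  · exact pc_2
  · exact pc_3
  · exact pc_4
  · exact pc_6
  · exact pc_7
  · exact pc_12
  · exact pc_14
  · exact pc_21
  · exact pc_28
  · exact pc_42
  · exact pc_84

theorem exp84 (x : X) : x ^ 84 = 1 :=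
  pow_eq_one_of_powCount_eq_card (pc_84.trans card_X.symm) x

end Cfsg.Agent.Helper62.Piwek.X04
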